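import Groth.Agent.Lib.Homog.Orbit
import Groth.Agent.Lib.GrpQ.RedSubgroup
import Groth.Agent.Lib.TorsorSch.ExtProper
import Groth.Agent.H60.GitQuot.GoodOrbit
import Groth.Prelude.Def_W4bk4git07Quot

/-!
An orbit map is proper exactly when the orbit is closed and the stabiliser is proper.
-/

set_option autoImplicit false

universe u

open CategoryTheory Limits MonoidalCategory CartesianMonoidalCategory MonObj AlgebraicGeometry

namespace Groth.Agent.H60.OrbitProper

noncomputable section

variable {k : Type u} [Field k] [IsAlgClosed k] {G X : Over (Spec (CommRingCat.of k))} [GrpObj G]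
  [LocallyOfFiniteType G.hom] [QuasiCompact G.hom] [LocallyOfFiniteType X.hom] [QuasiCompact X.hom]

/-- The stabiliser of a rational point as a scheme. -/
abbrev stabSch (a : AlgGrp.Action G X) (x : 𝟙_ (Over (Spec (CommRingCat.of k))) ⟶ X) : Scheme.{u} :=
  pullback (a.orbitMap x).left x.left

theorem isProper_of_reduced [AlgebraicGeometry.IsReduced G.left] (a : AlgGrp.Action G X)
    (x : 𝟙_ (Over (Spec (CommRingCat.of k))) ⟶ X) (hcl : IsClosed (Set.range (a.orbitMap x).left.base))
    (hst : IsProper (pullback.fst (a.orbitMap x).left x.left ≫ G.hom)) :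
    IsProper (a.orbitMap x).left := by
  obtain ⟨Z, b, y, j, hj, hlft, hjb, hy, hs, hr, hred⟩ := Lib.Homog.exists_orbit a x
  haveI := hred ‹_›
  haveI : Mono j := Lib.GrpQ.mono_of_left j
  haveI : IsClosedImmersion j.left := IsClosedImmersion.of_isPreimmersion _ (hr ▸ hcl)
  have horb : b.orbitMap y ≫ j = a.orbitMap x := by
    rw [AlgGrp.Action.orbitMap, Category.assoc, ← hjb, lift_whiskerLeft_assoc, Category.assoc, hy]
    rfl
  haveI := Lib.Homog.flat_orbitMap b y
  haveI : QuasiCompact Z.hom := by rw [← Over.w j]; infer_instance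
  haveI : QuasiCompact (b.orbitMap y).left := Lib.GrpSch.quasiCompact_orbitMap b y
  let St : Over (Spec (CommRingCat.of k)) := Over.mk (pullback.fst (a.orbitMap x).left x.left ≫ G.hom)
  let i : St ⟶ G := Over.homMk (pullback.fst (a.orbitMap x).left x.left) rfl
  let tS : St ⟶ 𝟙_ (Over (Spec (CommRingCat.of k))) := Over.homMk (pullback.snd (a.orbitMap x).left x.left) (by
    show pullback.snd _ _ ≫ (𝟙_ (Over (Spec (CommRingCat.of k)))).hom = pullback.fst _ _ ≫ G.hom
    rw [← Over.w x, ← pullback.condition_assoc, Over.w])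
  have hpa : IsPullback i tS (a.orbitMap x) x :=
    IsPullback.of_map (Over.forget _) (Over.OverMorphism.ext pullback.condition) (IsPullback.of_hasPullback _ _)
  rw [toUnit_unique tS (toUnit St)] at hpa
  have hpb : IsPullback i (toUnit St) (b.orbitMap y) y := by
    refine ⟨⟨?_⟩, ⟨PullbackCone.IsLimit.mk _ (fun s => hpa.lift s.fst (toUnit _) ?_) (fun s => hpa.lift_fst _ _ _)
      (fun s => toUnit_unique _ _)
      (fun s m h1 _ => hpa.hom_ext (by rw [hpa.lift_fst]; exact h1) (toUnit_unique _ _))⟩⟩
    · rw [← cancel_mono j, Category.assoc, horb, hpa.w, Category.assoc, hy]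
    · rw [← horb, reassoc_of% s.condition, hy, toUnit_unique s.snd (toUnit _)]
  have hsq : IsPullback (fst G St).left ((G ◁ i) ≫ μ[G]).left (b.orbitMap y).left (b.orbitMap y).left :=
    (Lib.Homog.isPullback_pair hpb).map (Over.forget _)
  haveI : IsProper St.hom := hst
  have hfst : IsProper (fst G St).left :=
    MorphismProperty.of_isPullback (P := @IsProper)
      (IsPullback.of_hasPullback G.hom St.hom).flip hst
  haveI : IsProper (b.orbitMap y).left :=
    MorphismProperty.of_isPullback_of_descendsAlong (P := @IsProper)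
      (Q := @Surjective ⊓ @Flat ⊓ @QuasiCompact) hsq
      ⟨⟨inferInstance, inferInstance⟩, inferInstance⟩ hfst
  rw [← horb, Over.comp_left]
  infer_instance

theorem isProper_iff (a : AlgGrp.Action G X) (x : 𝟙_ (Over (Spec (CommRingCat.of k))) ⟶ X) :
    IsProper (a.orbitMap x).left ↔
      IsClosed (Set.range (a.orbitMap x).left.base) ∧ IsProper (pullback.fst (a.orbitMap x).left x.left ≫ G.hom) := by
  have hw : pullback.fst (a.orbitMap x).left x.left ≫ G.hom =
      pullback.snd (a.orbitMap x).left x.left ≫ (𝟙_ (Over (Spec (CommRingCat.of k)))).hom := by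
    rw [← Over.w (a.orbitMap x), pullback.condition_assoc, Over.w]
  haveI hxu : IsProper (𝟙_ (Over (Spec (CommRingCat.of k)))).hom := inferInstanceAs (IsProper (𝟙 _))
  constructor
  · intro h
    refine ⟨(a.orbitMap x).left.isClosedMap.isClosed_range, ?_⟩
    rw [hw]
    infer_instance
  · rintro ⟨hcl, hst⟩
    obtain ⟨R, _, i, _, hi, hs, hR⟩ := Lib.GrpQ.RedSubgroup.exists_reduced_subgroup G
    haveI : LocallyOfFiniteType R.hom := by rw [← Over.w i]; infer_instance
    haveI : QuasiCompact R.hom := by rw [← Over.w i]; infer_instance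
    let aR : AlgGrp.Action R X := a.restrict i
    have horb : aR.orbitMap x = i ≫ a.orbitMap x := by
      rw [AlgGrp.Action.orbitMap, AlgGrp.Action.orbitMap, comp_lift_assoc, Category.comp_id,
        ← Category.assoc i, toUnit_unique (i ≫ toUnit G) (toUnit R)]
      show lift (𝟙 R) (toUnit R ≫ x) ≫ (i ▷ X) ≫ a.act = _
      rw [lift_whiskerRight_assoc, Category.id_comp]
    have hrange : Set.range (aR.orbitMap x).left.base = Set.range (a.orbitMap x).left.base := by
      rw [horb, Over.comp_left, Scheme.Hom.comp_base, TopCat.coe_comp, Set.range_comp,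
        i.left.surjective.range_eq, Set.image_univ]
    let m : pullback (aR.orbitMap x).left x.left ⟶ pullback (a.orbitMap x).left x.left :=
      pullback.lift (pullback.fst _ _ ≫ i.left) (pullback.snd _ _) (by
        rw [Category.assoc, ← Over.comp_left, ← horb, pullback.condition])
    have hm : IsPullback m (pullback.fst (aR.orbitMap x).left x.left) (pullback.fst (a.orbitMap x).left x.left)
        i.left := by
      refine IsPullback.of_right ?_ (pullback.lift_fst _ _ _)
        (IsPullback.of_hasPullback (a.orbitMap x).left x.left).flip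
      rw [show m ≫ pullback.snd (a.orbitMap x).left x.left = pullback.snd _ _ from pullback.lift_snd _ _ _,
        show i.left ≫ (a.orbitMap x).left = (aR.orbitMap x).left from by rw [horb, Over.comp_left]]
      exact (IsPullback.of_hasPullback (aR.orbitMap x).left x.left).flip
    haveI : IsClosedImmersion m := MorphismProperty.of_isPullback (P := @IsClosedImmersion) hm.flip hi
    have hRst : IsProper (pullback.fst (aR.orbitMap x).left x.left ≫ R.hom) := by
      rw [← Over.w i, ← Category.assoc, ← hm.w, Category.assoc]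
      infer_instance
    have hP := isProper_of_reduced aR x (hrange ▸ hcl) hRst
    rw [horb, Over.comp_left] at hP
    haveI : UniversallyClosed (a.orbitMap x).left := UniversallyClosed.of_comp_surjective i.left _
    haveI : IsSeparated G.hom := Lib.GrpSch.isSeparated_of_field G
    haveI : IsSeparated ((a.orbitMap x).left ≫ X.hom) := by rw [Over.w]; infer_instance
    haveI : IsSeparated (a.orbitMap x).left := IsSeparated.of_comp _ X.hom
    haveI : LocallyOfFiniteType ((a.orbitMap x).left ≫ X.hom) := by rw [Over.w]; infer_instance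
    haveI : LocallyOfFiniteType (a.orbitMap x).left := locallyOfFiniteType_of_comp _ X.hom
    exact { }

/-- The second projection `G ⊗ 𝟙 → G` identifies `ψ` with the orbit map. -/
theorem psi_eq (a : AlgGrp.Action G X) (x : 𝟙_ (Over (Spec (CommRingCat.of k))) ⟶ X) :
    GIT.psi a x = (ρ_ G).hom ≫ a.orbitMap x ≫ (ρ_ X).inv := by
  rw [← cancel_mono (ρ_ X).hom, Category.assoc, Category.assoc, Iso.inv_hom_id, Category.comp_id]
  simp only [rightUnitor_hom]
  rw [GIT.psi, lift_fst, AlgGrp.Action.orbitMap, ← Category.assoc, comp_lift, Category.comp_id]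
  congr 1
  apply CartesianMonoidalCategory.hom_ext
  · simp
  · rw [whiskerLeft_snd, lift_snd, ← Category.assoc,
      toUnit_unique (fst G _ ≫ toUnit G) (snd G (𝟙_ _))]

theorem psi_proper_iff (a : AlgGrp.Action G X) (x : 𝟙_ (Over (Spec (CommRingCat.of k))) ⟶ X) :
    IsProper (GIT.psi a x).left ↔
      IsClosed (Set.range (GIT.psi a x).left.base) ∧
        IsProper (pullback.snd (GIT.psi a x).left (lift x (𝟙 (𝟙_ (Over (Spec (CommRingCat.of k)))))).left ≫
          (𝟙_ (Over (Spec (CommRingCat.of k)))).hom) := by
  let eG : (G ⊗ 𝟙_ (Over (Spec (CommRingCat.of k)))).left ≅ G.left := (Over.forget _).mapIso (ρ_ G)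
  let eX : X.left ≅ (X ⊗ 𝟙_ (Over (Spec (CommRingCat.of k)))).left := (Over.forget _).mapIso (ρ_ X).symm
  have hp : (GIT.psi a x).left = eG.hom ≫ (a.orbitMap x).left ≫ eX.hom := by rw [psi_eq]; rfl
  have h1 : IsProper (GIT.psi a x).left ↔ IsProper (a.orbitMap x).left := by
    rw [hp, MorphismProperty.cancel_left_of_respectsIso @IsProper,
      MorphismProperty.cancel_right_of_respectsIso @IsProper]
  have h2 : IsClosed (Set.range (GIT.psi a x).left.base) ↔ IsClosed (Set.range (a.orbitMap x).left.base) := by
    rw [hp, Scheme.Hom.comp_base, TopCat.coe_comp, Scheme.Hom.comp_base, TopCat.coe_comp,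
      (eG.hom.surjective).range_comp, Set.range_comp]
    exact eX.hom.isClosedEmbedding.isClosed_iff_image_isClosed.symm
  let e : pullback (GIT.psi a x).left (lift x (𝟙 (𝟙_ (Over (Spec (CommRingCat.of k)))))).left ≅
      pullback (a.orbitMap x).left x.left :=
    asIso (pullback.map _ _ (a.orbitMap x).left x.left eG.hom (𝟙 _) eX.inv
      (by rw [hp, Category.assoc, Category.assoc, Iso.hom_inv_id, Category.comp_id])
      (by
        rw [Category.id_comp]
        show ((lift x (𝟙 _)) ≫ (ρ_ X).hom).left = x.left
        rw [rightUnitor_hom, lift_fst]))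
  have he : pullback.snd (GIT.psi a x).left (lift x (𝟙 (𝟙_ (Over (Spec (CommRingCat.of k)))))).left ≫
      (𝟙_ (Over (Spec (CommRingCat.of k)))).hom =
      e.hom ≫ pullback.fst (a.orbitMap x).left x.left ≫ G.hom := by
    rw [← Over.w (a.orbitMap x), pullback.condition_assoc, Over.w,
      ← Category.assoc e.hom, show e.hom ≫ pullback.snd _ _ = pullback.snd _ _ ≫ 𝟙 _ from pullback.lift_snd _ _ _,
      Category.comp_id]
  have h3 : IsProper (pullback.snd (GIT.psi a x).left (lift x (𝟙 (𝟙_ (Over (Spec (CommRingCat.of k)))))).left ≫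
      (𝟙_ (Over (Spec (CommRingCat.of k)))).hom) ↔ IsProper (pullback.fst (a.orbitMap x).left x.left ≫ G.hom) := by
    rw [he, MorphismProperty.cancel_left_of_respectsIso @IsProper]
  rw [h1, h2, h3]
  exact isProper_iff a x

end

end Groth.Agent.H60.OrbitProper
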